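import Cfsg.Agent.Lib.Twisted.E6
import Cfsg.Agent.Lib.Twisted.Weyl

/-! # The Weyl group of `²E₆(q)` -/

set_option autoImplicit false
set_option maxRecDepth 1000000

namespace Cfsg.Agent.Lib.Twisted.E6

open Cfsg.Lie

/-- The orbits as the nodes of the Coxeter diagram. -/
def Jn : Fin 4 → List ℕ := ![[1], [3], [2, 4], [0, 5]]

theorem Jn_mem : ∀ i, Jn i ∈ Js := by decide

theorem Jn_surj : ∀ J' ∈ Js, ∃ i, Jn i = J' := by decide

theorem ord_chk : ∀ i j : Fin 4, ordB chevE6 (Jn i) (Jn j) (CoxeterMatrix.F₄ i j) = true := by decide +kernel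

theorem weyl_main {K : Type*} [Field K] [Fintype K] {q : ℕ} (hq : IsPrimePow q) (hK : Fintype.card K = q ^ 2) :
    ∃ φ : ↥(chevE6.monomialSubgroup K ⊓ twistedE6 K q) →* (CoxeterMatrix.F₄).Group, Function.Surjective φ ∧
      φ.ker = (chevE6.diagonalSubgroup K ⊓ twistedE6 K q).subgroupOf (chevE6.monomialSubgroup K ⊓ twistedE6 K q) := by
  obtain ⟨φ, T, hφ, hφ2, hρ, hτ, I⟩ := main hq hK
  exact I.exists_N_hom _ Jn_mem Jn_surj ord_chk

end Cfsg.Agent.Lib.Twisted.E6
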