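import Cfsg.Agent.Lib.Twisted.E6Torus
import Cfsg.Agent.Lib.Twisted.E6Weyl
import Cfsg.Agent.Lib.Twisted.WLevel

/-!
# The order of `²E₆(q)`
-/

set_option autoImplicit false
set_option maxRecDepth 1000000

namespace Cfsg.Agent.Lib.Twisted.E6

open Cfsg.Lie Cfsg.Agent.Lib.Chevalley.Reflect
open Cfsg.Agent.Lib.Chevalley.Tbl.E6 (cols colOK sys comm)
open Cfsg.Agent.Lib.ChevBN.Elem Cfsg.Agent.Lib.ChevBN.Table Cfsg.Agent.Lib.ChevBN.Opp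
open Cfsg.Agent.Lib.ChevBN.FastData (tbl_chevE6)

/-- The exponents of the generators. -/
def wxE : Fin 4 → ℕ := ![1, 1, 2, 2]

/-- Base points of the orbits. -/
def pE : Fin 4 → ℕ := ![1, 3, 2, 0]

/-- The chain of levels. -/
def chainE : List (Fin 4 × List ℤ × List WEntry) := [
  (3, [1, 0, 0, 0, 0, 1], [([1, 0, 0, 0, 0, 1], 0, 0), ([-1, 0, 1, 0, 1, -1], 1, 2), ([0, 0, -1, 2, -1, 0], 2, 4), ([0, 2, 1, -2, 1, 0], 3, 5), ([1, 2, -1, 0, -1, 1], 4, 7), ([0, -2, 1, 0, 1, 0], 4, 6), ([-1, 2, 0, 0, 0, -1], 5, 9), ([1, -2, -1, 2, -1, 1], 5, 8), ([-1, -2, 0, 2, 0, -1], 6, 10), ([1, 0, 1, -2, 1, 1], 6, 9), ([-1, 0, 2, -2, 2, -1], 7, 11), ([2, 0, -1, 0, -1, 2], 7, 11), ([1, 0, -2, 2, -2, 1], 8, 13), ([-2, 0, 1, 0, 1, -2], 8, 13), ([-1, 0, -1, 2, -1, -1], 9, 15), ([1, 2, 0, -2, 0, 1], 9, 14), ([-1, 2, 1, -2, 1, -1], 10, 16), ([1, -2, 0, 0, 0, 1], 10,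 15), ([0, 2, -1, 0, -1, 0], 11, 18), ([-1, -2, 1, 0, 1, -1], 11, 17), ([0, -2, -1, 2, -1, 0], 12, 19), ([0, 0, 1, -2, 1, 0], 13, 20), ([1, 0, -1, 0, -1, 1], 14, 22), ([-1, 0, 0, 0, 0, -1], 15, 24)]),
  (2, [0, 0, 1, 0, 1, 0], [([0, 0, 1, 0, 1, 0], 0, 0), ([1, 0, -1, 2, -1, 1], 1, 2), ([1, 2, 1, -2, 1, 1], 2, 3), ([2, 2, -1, 0, -1, 2], 3, 5), ([1, -2, 1, 0, 1, 1], 3, 4), ([2, -2, -1, 2, -1, 2], 4, 6), ([2, 0, 1, -2, 1, 2], 5, 7), ([3, 0, -1, 0, -1, 3], 6, 9)]),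
  (1, [0, 0, 0, 1, 0, 0], [([0, 0, 0, 1, 0, 0], 0, 0), ([0, 1, 1, -1, 1, 0], 1, 1), ([0, -1, 1, 0, 1, 0], 2, 2)]),
  (0, [0, 1, 0, 0, 0, 0], [([0, 1, 0, 0, 0, 0], 0, 0), ([0, -1, 0, 1, 0, 0], 1, 1)])]

theorem chainE_chk : checkWC chevE6 Jn wxE pE chainE = true := by decide +kernel

theorem pE_mem : ∀ i, pE i ∈ Jn i := by decide

theorem chainE_all : ∀ i, i ∈ chainE.map Prod.fst := by decide

/-- The value of the chain. -/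
theorem chainE_val (q : ℕ) :
    chainW q chainE = (1 + q ^ 2 + q ^ 4 + q ^ 5 + q ^ 6 + q ^ 7 + q ^ 8 + 2 * q ^ 9 + q ^ 10 + 2 * q ^ 11 +
        2 * q ^ 13 + q ^ 14 + 2 * q ^ 15 + q ^ 16 + q ^ 17 + q ^ 18 + q ^ 19 + q ^ 20 + q ^ 22 + q ^ 24) *
      ((1 + q ^ 2 + q ^ 3 + q ^ 4 + q ^ 5 + q ^ 6 + q ^ 7 + q ^ 9) * ((1 + q + q ^ 2) * (1 + q))) := by
  simp only [chainE, chainW, List.map_cons, List.map_nil, List.sum_cons, List.sum_nil]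
  ring

/-- `(3,q+1) |²E₆(q)| = q³⁶(q²-1)(q⁵+1)(q⁶-1)(q⁸-1)(q⁹+1)(q¹²-1)`. -/
theorem card_main' {K : Type*} [Field K] [Fintype K] {q : ℕ} (hq : IsPrimePow q) (hK : Fintype.card K = q ^ 2) :
    Nat.gcd 3 (q + 1) * Nat.card ↥(twistedE6 K q) =
      q ^ 36 * (q ^ 2 - 1) * (q ^ 5 + 1) * (q ^ 6 - 1) * (q ^ 8 - 1) * (q ^ 9 + 1) * (q ^ 12 - 1) := by
  obtain ⟨φ, T, hφ, hφ2, hρ, hτ, I⟩ := main hq hK
  obtain ⟨e0, e1, e2, e3, e4, e5⟩ := e_s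
  have hcard : ∀ i, Nat.card ↥(gen (sys (F := K)).toAddRel (psiL chevE6 (Jn i)) ⊓ T.Fx) = q ^ wxE i := by
    intro i
    have hi : i = 0 ∨ i = 1 ∨ i = 2 ∨ i = 3 := by
      revert i
      decide
    rcases hi with rfl | rfl | rfl | rfl
    · show Nat.card ↥(gen (sys (F := K)).toAddRel (psiL chevE6 [1]) ⊓ T.Fx) = q ^ 1
      rw [card1 hρ hτ hφ hq.two_le hK (by decide) e1 (by decide +kernel) (by decide +kernel) (by decide +kernel),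
        pow_one]
    · show Nat.card ↥(gen (sys (F := K)).toAddRel (psiL chevE6 [3]) ⊓ T.Fx) = q ^ 1
      rw [card1 hρ hτ hφ hq.two_le hK (by decide) e3 (by decide +kernel) (by decide +kernel) (by decide +kernel),
        pow_one]
    · show Nat.card ↥(gen (sys (F := K)).toAddRel (psiL chevE6 [2, 4]) ⊓ T.Fx) = q ^ 2
      rw [card2 hρ hτ hφ2 (by decide) (by decide) e2 e4 (by decide +kernel) (by decide +kernel)
        (by decide +kernel) (by decide +kernel) (by decide +kernel) (by decide +kernel) (by decide +kernel)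
        (by decide +kernel) (by decide +kernel), hK]
    · show Nat.card ↥(gen (sys (F := K)).toAddRel (psiL chevE6 [0, 5]) ⊓ T.Fx) = q ^ 2
      rw [card2 hρ hτ hφ2 (by decide) (by decide) e0 e5 (by decide +kernel) (by decide +kernel)
        (by decide +kernel) (by decide +kernel) (by decide +kernel) (by decide +kernel) (by decide +kernel)
        (by decide +kernel) (by decide +kernel), hK]
  have h1 := I.card_G1 Jn Jn_mem Jn_surj pE pE_mem hcard chainE_chk chainE_all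
  have hU : Nat.card ↥(chevE6.posUnipotent K ⊓ T.Fx) = q ^ 36 := by
    rw [← I.U_inf_eq]
    exact card_U hq hK
  have hH := card_H1 hq hK
  rw [h1, hU, chainE_val]
  rw [show ∀ d h p : ℕ, d * (q ^ 36 * h * p) = q ^ 36 * (d * h) * p from fun d h p => by ring, hH]
  obtain ⟨k, rfl⟩ : ∃ k, q = k + 1 := ⟨q - 1, by have := hq.two_le; omega⟩
  have e2 : (k + 1) ^ 2 - 1 = k * (k + 2) := by
    rw [Nat.sub_eq_iff_eq_add (Nat.one_le_pow _ _ (by omega))]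
    ring
  have e6 : (k + 1) ^ 6 - 1 = k * ((k + 1) ^ 5 + (k + 1) ^ 4 + (k + 1) ^ 3 + (k + 1) ^ 2 + (k + 1) + 1) := by
    rw [Nat.sub_eq_iff_eq_add (Nat.one_le_pow _ _ (by omega))]
    ring
  have e8 : (k + 1) ^ 8 - 1 = k * ((k + 1) ^ 7 + (k + 1) ^ 6 + (k + 1) ^ 5 + (k + 1) ^ 4 + (k + 1) ^ 3 +
      (k + 1) ^ 2 + (k + 1) + 1) := by
    rw [Nat.sub_eq_iff_eq_add (Nat.one_le_pow _ _ (by omega))]
    ring
  have e12 : (k + 1) ^ 12 - 1 = k * ((k + 1) ^ 11 + (k + 1) ^ 10 + (k + 1) ^ 9 + (k + 1) ^ 8 + (k + 1) ^ 7 +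
      (k + 1) ^ 6 + (k + 1) ^ 5 + (k + 1) ^ 4 + (k + 1) ^ 3 + (k + 1) ^ 2 + (k + 1) + 1) := by
    rw [Nat.sub_eq_iff_eq_add (Nat.one_le_pow _ _ (by omega))]
    ring
  rw [e2, e6, e8, e12, Nat.add_sub_cancel]
  ring

end Cfsg.Agent.Lib.Twisted.E6
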