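import Cfsg.Agent.Lib.Twisted.E6Simp
import Cfsg.Agent.Lib.Twisted.Torus

/-!
# The order of the diagonal subgroup of `²E₆(q)`
-/

set_option autoImplicit false
set_option maxRecDepth 1000000

namespace Cfsg.Agent.Lib.Twisted.E6

open Cfsg.Lie Cfsg.Agent.Lib.Chevalley.Reflect
open Cfsg.Agent.Lib.Chevalley.Tbl.E6 (cols colOK sys comm)
open Cfsg.Agent.Lib.ChevBN.Elem Cfsg.Agent.Lib.ChevBN.Table Cfsg.Agent.Lib.ChevBN.Opp
open Cfsg.Agent.Lib.ChevBN.FastData (tbl_chevE6)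
open Cfsg.Agent.Lib.ChevOrder.TorusCard

variable {K : Type*} [Field K]

/-- The parameter of a torus element. -/
noncomputable def dP (φ : K →+* K) (t₀ t₂ c₁ c₃ : K) : ℕ → K :=
  fun i => if i = 0 then t₀ else if i = 5 then φ t₀ else if i = 2 then t₂ else if i = 4 then φ t₂
    else if i = 1 then c₁ else c₃

/-- The unit Frobenius. -/
noncomputable abbrev φU (φ : K →+* K) : Kˣ →* Kˣ := Units.map (φ : K →* K)

/-- The scalars of the torus elements, as a homomorphism. -/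
noncomputable def Φ₀ (φ : K →+* K) : Kˣ × Kˣ × fixU φ × fixU φ →* Kˣ × Kˣ × Kˣ × Kˣ :=
  MonoidHom.mk' (fun a => (a.1 ^ 2 * a.2.1⁻¹, a.2.1 ^ 2 * a.1⁻¹ * (a.2.2.2 : Kˣ)⁻¹,
    (a.2.2.2 : Kˣ) ^ 2 * (a.2.2.1 : Kˣ)⁻¹ * a.2.1⁻¹ * (φU φ a.2.1)⁻¹,
    (a.2.2.1 : Kˣ) ^ 2 * (a.2.2.2 : Kˣ)⁻¹)) (by
    intro a b
    refine Prod.ext ?_ (Prod.ext ?_ (Prod.ext ?_ ?_))
    · simp only [Prod.fst_mul, Prod.snd_mul, Subgroup.coe_mul, mul_pow, mul_inv, map_mul]
      try ac_rfl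
    · simp only [Prod.fst_mul, Prod.snd_mul, Subgroup.coe_mul, mul_pow, mul_inv, map_mul]
      try ac_rfl
    · simp only [Prod.fst_mul, Prod.snd_mul, Subgroup.coe_mul, mul_pow, mul_inv, map_mul]
      try ac_rfl
    · simp only [Prod.fst_mul, Prod.snd_mul, Subgroup.coe_mul, mul_pow, mul_inv, map_mul]
      try ac_rfl)

theorem ker_aux {T U S C1 C3 : K} (hT : T ≠ 0) (h1 : U = T ^ 2) (h2 : C3 = T ^ 3)
    (hS3 : S ^ 3 = T ^ 3) (h3 : C1 * U * S ^ 2 = C3 ^ 2) (h4 : C1 ^ 2 = C3) :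
    S = T ^ 2 ∧ T ^ 3 = 1 := by
  subst h1 h2
  have h5 : C1 * S ^ 2 = T ^ 4 := by
    apply mul_left_cancel₀ (pow_ne_zero 2 hT)
    linear_combination h3
  have h6 : T ^ 3 * (S ^ 4) = T ^ 3 * T ^ 5 := by
    linear_combination (C1 * S ^ 2 + T ^ 4) * h5 - S ^ 4 * h4
  have h7 : S ^ 4 = T ^ 5 := mul_left_cancel₀ (pow_ne_zero 3 hT) h6
  have h8 : S = T ^ 2 := by
    apply mul_left_cancel₀ (pow_ne_zero 3 hT)
    linear_combination h7 - S * hS3
  refine ⟨h8, ?_⟩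
  have h9 : T ^ 3 * T ^ 3 = T ^ 3 * 1 := by
    rw [h8] at hS3
    linear_combination hS3
  exact mul_left_cancel₀ (pow_ne_zero 3 hT) h9

theorem ca1 {G : Type*} [CommGroup G] {x a b c : G} (h : x * a⁻¹ * b⁻¹ * c⁻¹ = 1) : x = a * (b * c) := by
  rw [mul_inv_eq_one, mul_inv_eq_iff_eq_mul, mul_inv_eq_iff_eq_mul] at h
  rw [h]
  ac_rfl

section Ker

variable {q : ℕ} {φ : K →+* K} (hφ : ∀ t, φ t = t ^ q)
include hφ

theorem Φ₀_ker_pow {a : Kˣ × Kˣ × fixU φ × fixU φ} (h : a ∈ (Φ₀ φ).ker) :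
    a.1 ^ Nat.gcd 3 (q + 1) = 1 := by
  obtain ⟨t, u, c1, c3⟩ := a
  have h1 : t ^ 2 * u⁻¹ = 1 := congrArg Prod.fst (MonoidHom.mem_ker.1 h)
  have h2 : u ^ 2 * t⁻¹ * (c3 : Kˣ)⁻¹ = 1 := congrArg (fun x => x.2.1) (MonoidHom.mem_ker.1 h)
  have h3 : (c3 : Kˣ) ^ 2 * (c1 : Kˣ)⁻¹ * u⁻¹ * (φU φ u)⁻¹ = 1 :=
    congrArg (fun x => x.2.2.1) (MonoidHom.mem_ker.1 h)
  have h4 : (c1 : Kˣ) ^ 2 * (c3 : Kˣ)⁻¹ = 1 := congrArg (fun x => x.2.2.2) (MonoidHom.mem_ker.1 h)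
  have hu : u = t ^ 2 := (mul_inv_eq_one.1 h1).symm
  have hc3 : (c3 : Kˣ) = t ^ 3 := by
    have := (mul_inv_eq_one.1 h2).symm
    rw [this, hu]
    group
  have hf3 : φ (c3 : Kˣ) = ((c3 : Kˣ) : K) := mem_fixU.1 c3.2
  have e1 : ((u : Kˣ) : K) = (t : K) ^ 2 := by rw [hu]; simp
  have e2 : ((c3 : Kˣ) : K) = (t : K) ^ 3 := by rw [hc3]; simp
  have e3 : φ (t : K) ^ 3 = (t : K) ^ 3 := by
    rw [e2, map_pow] at hf3
    exact hf3
  have e4 : ((c1 : Kˣ) : K) * (u : K) * φ (t : K) ^ 2 = ((c3 : Kˣ) : K) ^ 2 := by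
    have h5 : (c3 : Kˣ) ^ 2 = (c1 : Kˣ) * (u * φU φ u) := ca1 h3
    have h7 := congrArg Units.val h5
    have h8 : (((φU φ) u : Kˣ) : K) = φ (t : K) ^ 2 := by
      show φ (u : K) = _
      rw [e1, map_pow]
    simp only [Units.val_mul, Units.val_pow_eq_pow_val, h8] at h7
    rw [h7]
    ring
  have e5 : ((c1 : Kˣ) : K) ^ 2 = ((c3 : Kˣ) : K) := by
    have := congrArg Units.val (mul_inv_eq_one.1 h4)
    simpa using this
  obtain ⟨e6, e7⟩ := ker_aux t.ne_zero e1 e2 e3 e4 e5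
  have h9 : t ^ 3 = 1 := by
    apply Units.ext
    simpa using e7
  have h10 : t ^ (q + 1) = 1 := by
    apply Units.ext
    rw [pow_succ, Units.val_mul, Units.val_pow_eq_pow_val, ← hφ, e6, Units.val_one, ← e7]
    ring
  exact pow_gcd_eq_one.2 ⟨h9, h10⟩

theorem Φ₀_ker_card [Fintype K] (hq : 2 ≤ q) (hK : Fintype.card K = q ^ 2) :
    Nat.card (Φ₀ φ).ker ≤ Nat.gcd 3 (q + 1) := by
  have hd : Nat.gcd 3 (q + 1) ∣ q ^ 2 - 1 := by
    have h1 : q + 1 ∣ q ^ 2 - 1 := by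
      obtain ⟨k, rfl⟩ : ∃ k, q = k + 1 := ⟨q - 1, by omega⟩
      refine ⟨k, ?_⟩
      rw [Nat.sub_eq_iff_eq_add (Nat.one_le_pow _ _ (by omega))]
      ring
    exact (Nat.gcd_dvd_right _ _).trans h1
  have h1 : Nat.card (powMonoidHom (Nat.gcd 3 (q + 1)) : Kˣ →* Kˣ).ker = Nat.gcd 3 (q + 1) := by
    rw [IsCyclic.card_powMonoidHom_ker, card_units_pow hK, Nat.gcd_eq_right hd]
  rw [← h1]
  refine Nat.card_le_card_of_injective
    (fun x : (Φ₀ φ).ker => (⟨x.1.1, Φ₀_ker_pow hφ x.2⟩ : (powMonoidHom (Nat.gcd 3 (q + 1)) : Kˣ →* Kˣ).ker)) ?_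
  rintro ⟨⟨t, u, c1, c3⟩, h⟩ ⟨⟨t', u', c1', c3'⟩, h'⟩ hab
  have e0 : t = t' := congrArg (fun x : (powMonoidHom (Nat.gcd 3 (q + 1)) : Kˣ →* Kˣ).ker => x.1) hab
  subst e0
  have h1 : t ^ 2 * u⁻¹ = 1 := congrArg Prod.fst (MonoidHom.mem_ker.1 h)
  have h2 : u ^ 2 * t⁻¹ * (c3 : Kˣ)⁻¹ = 1 := congrArg (fun x => x.2.1) (MonoidHom.mem_ker.1 h)
  have h3 : (c3 : Kˣ) ^ 2 * (c1 : Kˣ)⁻¹ * u⁻¹ * (φU φ u)⁻¹ = 1 :=
    congrArg (fun x => x.2.2.1) (MonoidHom.mem_ker.1 h)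
  have h1' : t ^ 2 * u'⁻¹ = 1 := congrArg Prod.fst (MonoidHom.mem_ker.1 h')
  have h2' : u' ^ 2 * t⁻¹ * (c3' : Kˣ)⁻¹ = 1 := congrArg (fun x => x.2.1) (MonoidHom.mem_ker.1 h')
  have h3' : (c3' : Kˣ) ^ 2 * (c1' : Kˣ)⁻¹ * u'⁻¹ * (φU φ u')⁻¹ = 1 :=
    congrArg (fun x => x.2.2.1) (MonoidHom.mem_ker.1 h')
  have e1 : u = u' := (mul_inv_eq_one.1 h1).symm.trans (mul_inv_eq_one.1 h1')
  subst e1
  have e2 : (c3 : Kˣ) = c3' := (mul_inv_eq_one.1 h2).symm.trans (mul_inv_eq_one.1 h2')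
  have e2' : c3 = c3' := Subtype.ext e2
  subst e2'
  have e3 : (c1 : Kˣ) = c1' := mul_right_cancel ((ca1 h3).symm.trans (ca1 h3'))
  have e3' : c1 = c1' := Subtype.ext e3
  subst e3'
  rfl

end Ker

set_option quotPrecheck false in
/-- The root elements. -/
local notation "Xr" => X (sys (F := _)).toAddRel

theorem cart_vals :
    chevE6.cartan 0 (chevE6.simple 0) = 2 ∧
    chevE6.cartan 1 (chevE6.simple 0) = 0 ∧
    chevE6.cartan 2 (chevE6.simple 0) = -1 ∧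
    chevE6.cartan 3 (chevE6.simple 0) = 0 ∧
    chevE6.cartan 4 (chevE6.simple 0) = 0 ∧
    chevE6.cartan 5 (chevE6.simple 0) = 0 ∧
    chevE6.cartan 0 (chevE6.simple 1) = 0 ∧
    chevE6.cartan 1 (chevE6.simple 1) = 2 ∧
    chevE6.cartan 2 (chevE6.simple 1) = 0 ∧
    chevE6.cartan 3 (chevE6.simple 1) = -1 ∧
    chevE6.cartan 4 (chevE6.simple 1) = 0 ∧
    chevE6.cartan 5 (chevE6.simple 1) = 0 ∧
    chevE6.cartan 0 (chevE6.simple 2) = -1 ∧
    chevE6.cartan 1 (chevE6.simple 2) = 0 ∧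
    chevE6.cartan 2 (chevE6.simple 2) = 2 ∧
    chevE6.cartan 3 (chevE6.simple 2) = -1 ∧
    chevE6.cartan 4 (chevE6.simple 2) = 0 ∧
    chevE6.cartan 5 (chevE6.simple 2) = 0 ∧
    chevE6.cartan 0 (chevE6.simple 3) = 0 ∧
    chevE6.cartan 1 (chevE6.simple 3) = -1 ∧
    chevE6.cartan 2 (chevE6.simple 3) = -1 ∧
    chevE6.cartan 3 (chevE6.simple 3) = 2 ∧
    chevE6.cartan 4 (chevE6.simple 3) = -1 ∧
    chevE6.cartan 5 (chevE6.simple 3) = 0 ∧
    chevE6.cartan 0 (chevE6.simple 4) = 0 ∧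
    chevE6.cartan 1 (chevE6.simple 4) = 0 ∧
    chevE6.cartan 2 (chevE6.simple 4) = 0 ∧
    chevE6.cartan 3 (chevE6.simple 4) = -1 ∧
    chevE6.cartan 4 (chevE6.simple 4) = 2 ∧
    chevE6.cartan 5 (chevE6.simple 4) = -1 ∧
    chevE6.cartan 0 (chevE6.simple 5) = 0 ∧
    chevE6.cartan 1 (chevE6.simple 5) = 0 ∧
    chevE6.cartan 2 (chevE6.simple 5) = 0 ∧
    chevE6.cartan 3 (chevE6.simple 5) = 0 ∧
    chevE6.cartan 4 (chevE6.simple 5) = -1 ∧
    chevE6.cartan 5 (chevE6.simple 5) = 2 := by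
  decide +kernel

section
variable [Fintype K] {q : ℕ} {φ : K →+* K} {T : Tw (sys (F := K)).toAddRel}
  (hφ : ∀ t, φ t = t ^ q) (hφ2 : ∀ t, φ (φ t) = t) (hρ : T.ρ = ρ0)
  (hτ : ∀ r t, T.τ r t = ((ε0 r : ℤ) : K) * φ t)
  (I : Inst sys tbl_chevE6 T Js cl (twistedE6 K q))

include hφ hρ hτ in
theorem hy1 {i a b : ℕ} (e : chevE6.simple i = a) (e2 : chevE6.neg a = b) (h1 : ρ0 a = a) (h2 : ε0 b = 1)
    (hmem : b ∈ [e6p2, e6m2, e6p4, e6m4]) :
    ∀ c, FixN T [i] c → yJ (sys (F := K)).toAddRel [i] c ∈ twistedE6 K q := by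
  intro c hc
  have h3 := hc i (by simp) i (by simp) (by rw [hρ, e]; exact h1)
  rw [e, e2, hτ, h2] at h3
  simp only [Int.cast_one, one_mul] at h3
  rw [yJ_1 e e2]
  exact X_single_mem hφ hmem h3.symm

include hφ2 hρ hτ in
theorem fixP2 {i j a' b' : ℕ} (hij : i ≠ j) (e : chevE6.simple i = a') (e' : chevE6.simple j = b')
    (h1 : ρ0 a' = b') (h2 : ρ0 b' = a') (h3 : ε0 a' = 1) (h4 : ε0 b' = 1) (hJ : [i, j] ∈ Js) {d : ℕ → K}
    (hd : d j = φ (d i)) : FixP T [i, j] d := by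
  have ho := orth (K := K) hρ
  refine ho.fixP_of tbl_chevE6 hJ (π := fun k => if k = i then j else i) ?_ ?_
  · intro k hk
    simp only [List.mem_cons, List.not_mem_nil, or_false] at hk
    rcases hk with rfl | rfl
    · simp only [if_true]
      exact ⟨by simp, by rw [hρ, e, e']; exact h1⟩
    · simp only [Ne.symm hij, if_false]
      exact ⟨by simp, by rw [hρ, e, e']; exact h2⟩
  · intro k hk
    simp only [List.mem_cons, List.not_mem_nil, or_false] at hk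
    rcases hk with rfl | rfl
    · simp [hτ, e, h3, hd]
    · simp [hτ, e', h4, Ne.symm hij, hd, hφ2]

include hρ hτ in
theorem fixP1 {i a' : ℕ} (e : chevE6.simple i = a') (h3 : ε0 a' = 1) {d : ℕ → K}
    (hd : φ (d i) = d i) : FixP T [i] d := by
  intro k hk k' hk' _
  have e1 : k = i := by simpa using hk
  have e2 : k' = i := by simpa using hk'
  subst e1 e2
  rw [e, hτ, h3]
  simp [hd]

include hφ hφ2 hρ hτ I in
theorem exists_Θ (a : Kˣ × Kˣ × fixU φ × fixU φ) : ∃ h : ↥(chevE6.diagonalSubgroup K ⊓ twistedE6 K q),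
    h.1 = torJ (sys (F := K)).toAddRel [1, 3, 0, 5, 2, 4]
      (dP φ (a.1 : K) (a.2.1 : K) ((a.2.2.1 : Kˣ) : K) ((a.2.2.2 : Kˣ) : K)) := by
  obtain ⟨e0, e1, e2, e3, e4, e5⟩ := e_s
  obtain ⟨n0, n1, n2, n3, n4, n5⟩ := e_n
  have hc1 : φ ((a.2.2.1 : Kˣ) : K) = ((a.2.2.1 : Kˣ) : K) := mem_fixU.1 a.2.2.1.2
  have hc3 : φ ((a.2.2.2 : Kˣ) : K) = ((a.2.2.2 : Kˣ) : K) := mem_fixU.1 a.2.2.2.2
  set d := dP φ (a.1 : K) (a.2.1 : K) ((a.2.2.1 : Kˣ) : K) ((a.2.2.2 : Kˣ) : K) with hd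
  have hne : ∀ j, d j ≠ 0 := by
    intro j
    simp only [hd, dP]
    split_ifs <;> simp
  have hsplit : torJ (sys (F := K)).toAddRel [1, 3, 0, 5, 2, 4] d =
      torJ (sys (F := K)).toAddRel [1] d * (torJ (sys (F := K)).toAddRel [3] d *
      (torJ (sys (F := K)).toAddRel [0, 5] d * torJ (sys (F := K)).toAddRel [2, 4] d)) := by
    rw [← torJ_append, ← torJ_append, ← torJ_append]
    rfl
  refine ⟨⟨_, ?_, ?_⟩, rfl⟩
  · exact torJ_mem_H sys tbl_chevE6 (J := [1, 3, 0, 5, 2, 4]) (by decide) (fun i _ => hne i)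
  · show torJ (sys (F := K)).toAddRel [1, 3, 0, 5, 2, 4] d ∈ twistedE6 K q
    rw [hsplit]
    refine Subgroup.mul_mem _ (I.torJ_mem_G1 (by decide) (hy1 hφ hρ hτ e1 n1 (by decide +kernel) (by decide +kernel) (by simp [e6m2]))
      (fixP1 hρ hτ e1 (by decide +kernel) ?_) (fun i _ => hne i))
      (Subgroup.mul_mem _ (I.torJ_mem_G1 (by decide) (hy1 hφ hρ hτ e3 n3 (by decide +kernel) (by decide +kernel) (by simp [e6m4]))
      (fixP1 hρ hτ e3 (by decide +kernel) ?_) (fun i _ => hne i))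
      (Subgroup.mul_mem _ (I.torJ_mem_G1 (by decide)
        (hy2 hφ hρ hτ (by decide) e0 e5 n0 n5 (by decide +kernel) (by decide +kernel) (by simp [e6m1, e6m6]))
        (fixP2 hφ2 hρ hτ (by decide) e0 e5 (by decide +kernel) (by decide +kernel) (by decide +kernel)
          (by decide +kernel) (by decide) ?_) (fun i _ => hne i))
        (I.torJ_mem_G1 (by decide)
        (hy2 hφ hρ hτ (by decide) e2 e4 n2 n4 (by decide +kernel) (by decide +kernel) (by simp [e6m3, e6m5]))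
        (fixP2 hφ2 hρ hτ (by decide) e2 e4 (by decide +kernel) (by decide +kernel) (by decide +kernel)
          (by decide +kernel) (by decide) ?_) (fun i _ => hne i))))
    · simpa [hd, dP] using hc1
    · simpa [hd, dP] using hc3
    · simp [hd, dP]
    · simp [hd, dP]

/-- Fundamental roots as elements of `Fin rank`. -/
abbrev f0 : Fin chevE6.rank := ⟨0, by decide⟩
/-- Fundamental roots as elements of `Fin rank`. -/
abbrev f1 : Fin chevE6.rank := ⟨1, by decide⟩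
/-- Fundamental roots as elements of `Fin rank`. -/
abbrev f2 : Fin chevE6.rank := ⟨2, by decide⟩
/-- Fundamental roots as elements of `Fin rank`. -/
abbrev f3 : Fin chevE6.rank := ⟨3, by decide⟩
/-- Fundamental roots as elements of `Fin rank`. -/
abbrev f4 : Fin chevE6.rank := ⟨4, by decide⟩
/-- Fundamental roots as elements of `Fin rank`. -/
abbrev f5 : Fin chevE6.rank := ⟨5, by decide⟩

theorem fin_cases6 (i : Fin chevE6.rank) : i = f0 ∨ i = f1 ∨ i = f2 ∨ i = f3 ∨ i = f4 ∨ i = f5 := by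
  revert i
  decide

/-- Passage to the diagonal subgroup. -/
def toH (h : ↥(chevE6.diagonalSubgroup K ⊓ twistedE6 K q)) : chevE6.diagonalSubgroup K :=
  ⟨h.1, h.2.1⟩

include hρ hτ I in
theorem kap_fix (h : ↥(chevE6.diagonalSubgroup K ⊓ twistedE6 K q)) :
    φ (kapU sys tbl_chevE6 (toH h) f1 : K) = kapU sys tbl_chevE6 (toH h) f1 ∧
    φ (kapU sys tbl_chevE6 (toH h) f3 : K) = kapU sys tbl_chevE6 (toH h) f3 ∧
    (kapU sys tbl_chevE6 (toH h) f5 : K) = φ (kapU sys tbl_chevE6 (toH h) f0) ∧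
    (kapU sys tbl_chevE6 (toH h) f4 : K) = φ (kapU sys tbl_chevE6 (toH h) f2) := by
  obtain ⟨e0, e1, e2, e3, e4, e5⟩ := e_s
  have hF : (toH h).1 ∈ T.Fx := I.fix h.2.2
  have h1 := kapU_fix sys tbl_chevE6 (T := T) (toH h) hF (i := f1) (i' := f1)
    (by show T.ρ (chevE6.simple 1) = chevE6.simple 1; rw [hρ, e1]; decide +kernel) φ (e := 1) one_ne_zero
    (by intro t; show T.τ (chevE6.simple 1) t = _; rw [e1, hτ, (by decide +kernel : ε0 46 = 1)]; simp)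
  have h2 := kapU_fix sys tbl_chevE6 (T := T) (toH h) hF (i := f3) (i' := f3)
    (by show T.ρ (chevE6.simple 3) = chevE6.simple 3; rw [hρ, e3]; decide +kernel) φ (e := 1) one_ne_zero
    (by intro t; show T.τ (chevE6.simple 3) t = _; rw [e3, hτ, (by decide +kernel : ε0 39 = 1)]; simp)
  have h3 := kapU_fix sys tbl_chevE6 (T := T) (toH h) hF (i := f0) (i' := f5)
    (by show T.ρ (chevE6.simple 0) = chevE6.simple 5; rw [hρ, e0, e5]; decide +kernel) φ (e := 1) one_ne_zero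
    (by intro t; show T.τ (chevE6.simple 0) t = _; rw [e0, hτ, (by decide +kernel : ε0 56 = 1)]; simp)
  have h4 := kapU_fix sys tbl_chevE6 (T := T) (toH h) hF (i := f2) (i' := f4)
    (by show T.ρ (chevE6.simple 2) = chevE6.simple 4; rw [hρ, e2, e4]; decide +kernel) φ (e := 1) one_ne_zero
    (by intro t; show T.τ (chevE6.simple 2) t = _; rw [e2, hτ, (by decide +kernel : ε0 42 = 1)]; simp)
  exact ⟨h1.symm, h2.symm, h3, h4⟩

omit [Fintype K] in
/-- The product over the fundamental roots. -/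
theorem prod_six (f : Fin chevE6.rank → Kˣ) : ∏ j, f j = f f0 * f f1 * f f2 * f f3 * f f4 * f f5 :=
  Fin.prod_univ_six f

omit [Fintype K] in
/-- The cube relation among the scalars. -/
theorem kap_cube (h : chevE6.diagonalSubgroup K) :
    ∃ y : Kˣ, kapU sys tbl_chevE6 h f0 * (kapU sys tbl_chevE6 h f2)⁻¹ * kapU sys tbl_chevE6 h f4 *
      (kapU sys tbl_chevE6 h f5)⁻¹ = y ^ 3 := by
  obtain ⟨c00, c01, c02, c03, c04, c05, c10, c11, c12, c13, c14, c15, c20, c21, c22, c23, c24, c25, c30, c31, c32, c33, c34, c35, c40, c41, c42, c43, c44, c45, c50, c51, c52, c53, c54, c55⟩ := cart_vals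
  set c := preU sys tbl_chevE6 h with hc
  refine ⟨c f0 * (c f2)⁻¹ * c f4 * (c f5)⁻¹, ?_⟩
  simp only [kapU, actM_apply, prod_six, cartM, Matrix.of_apply]
  simp only [←hc, c00, c01, c02, c03, c04, c05, c10, c11, c12, c13, c14, c15, c20, c21, c22, c23, c24, c25, c30, c31, c32, c33, c34, c35, c40, c41, c42, c43, c44, c45, c50, c51, c52, c53, c54, c55, zpow_zero, zpow_one, zpow_neg, mul_one, one_mul]
  have e0 := (c f0).ne_zero
  have e2 := (c f2).ne_zero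
  have e3 := (c f3).ne_zero
  have e4 := (c f4).ne_zero
  have e5 := (c f5).ne_zero
  apply Units.ext
  simp only [Units.val_mul, Units.val_inv_eq_inv_val, Units.val_zpow_eq_zpow_val, Units.val_pow_eq_pow_val]
  generalize ((c f0 : Kˣ) : K) = a0 at *
  generalize ((c f2 : Kˣ) : K) = a2 at *
  generalize ((c f3 : Kˣ) : K) = a3 at *
  generalize ((c f4 : Kˣ) : K) = a4 at *
  generalize ((c f5 : Kˣ) : K) = a5 at *
  have e : (2 : ℤ) = ((2 : ℕ) : ℤ) := rfl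
  simp only [e, zpow_natCast]
  field_simp

include hφ hρ hτ I in
theorem kap_mem (h : ↥(chevE6.diagonalSubgroup K ⊓ twistedE6 K q)) :
    kapU sys tbl_chevE6 (toH h) f0 * (kapU sys tbl_chevE6 (toH h) f2)⁻¹ ∈
      (powMonoidHom (Nat.gcd 3 (q + 1)) : Kˣ →* Kˣ).range := by
  by_cases h3 : 3 ∣ q + 1
  · rw [Nat.gcd_eq_left h3]
    obtain ⟨k, hk⟩ := h3
    obtain ⟨y, hy⟩ := kap_cube (toH h)
    obtain ⟨-, -, h5, h4⟩ := kap_fix hρ hτ I h
    set a0 := kapU sys tbl_chevE6 (toH h) f0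
    set a2 := kapU sys tbl_chevE6 (toH h) f2
    have e5 : kapU sys tbl_chevE6 (toH h) f5 = a0 ^ q := by
      apply Units.ext
      rw [h5, hφ]
      simp
    have e4 : kapU sys tbl_chevE6 (toH h) f4 = a2 ^ q := by
      apply Units.ext
      rw [h4, hφ]
      simp
    rw [e5, e4] at hy
    set x := a0 * a2⁻¹ with hx
    have hy2 : x * (x ^ q)⁻¹ = y ^ 3 := by
      rw [← hy, hx, mul_pow, inv_pow, mul_inv, inv_inv]
      simp only [mul_assoc, mul_comm, mul_left_comm]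
    have h6 : x ^ q * x = (x ^ k) ^ 3 := by
      rw [← pow_succ, ← pow_mul, hk, mul_comm]
    clear_value x
    have h7 : x * x = (y * x ^ k) ^ 3 := by
      rw [mul_pow, ← h6, ← hy2, mul_assoc, inv_mul_cancel_left]
    refine ⟨x * (y * x ^ k)⁻¹, ?_⟩
    rw [powMonoidHom_apply, mul_pow, inv_pow, ← h7]
    group
  · have h1 : Nat.gcd 3 (q + 1) = 1 := (Nat.Prime.coprime_iff_not_dvd Nat.prime_three).2 h3
    rw [h1]
    exact ⟨_, pow_one _⟩

include hφ hφ2 hρ hτ I in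
theorem card_main (hq : 2 ≤ q) (hK : Fintype.card K = q ^ 2) :
    Nat.gcd 3 (q + 1) * Nat.card ↥(chevE6.diagonalSubgroup K ⊓ twistedE6 K q) = (q - 1) ^ 4 * (q + 1) ^ 2 := by
  classical
  have hA : Nat.card (Kˣ × Kˣ × fixU φ × fixU φ) = (q - 1) ^ 4 * (q + 1) ^ 2 := by
    rw [Nat.card_prod, Nat.card_prod, Nat.card_prod, card_units_pow hK, card_fixU hq hK hφ]
    obtain ⟨k, rfl⟩ : ∃ k, q = k + 1 := ⟨q - 1, by omega⟩
    simp only [Nat.add_sub_cancel]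
    have : (k + 1) ^ 2 - 1 = k * (k + 1 + 1) := by
      rw [Nat.sub_eq_iff_eq_add (Nat.one_le_pow _ _ (by omega))]
      ring
    rw [this]
    ring
  have hd : Nat.gcd 3 (q + 1) ∣ q ^ 2 - 1 := by
    have h1 : q + 1 ∣ q ^ 2 - 1 := by
      obtain ⟨k, rfl⟩ : ∃ k, q = k + 1 := ⟨q - 1, by omega⟩
      refine ⟨k, ?_⟩
      rw [Nat.sub_eq_iff_eq_add (Nat.one_le_pow _ _ (by omega))]
      ring
    exact (Nat.gcd_dvd_right _ _).trans h1
  rw [← hA]
  apply le_antisymm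
  · -- the scalars embed the group
    let E : ↥(chevE6.diagonalSubgroup K ⊓ twistedE6 K q) →
        (powMonoidHom (Nat.gcd 3 (q + 1)) : Kˣ →* Kˣ).range × Kˣ × fixU φ × fixU φ := fun h =>
      (⟨_, kap_mem hφ hρ hτ I h⟩, kapU sys tbl_chevE6 (toH h) f2,
        ⟨kapU sys tbl_chevE6 (toH h) f3, (kap_fix hρ hτ I h).2.1⟩,
        ⟨kapU sys tbl_chevE6 (toH h) f1, (kap_fix hρ hτ I h).1⟩)
    have hinj : Function.Injective E := by
      intro a b hab
      have h0' : kapU sys tbl_chevE6 (toH a) f0 * (kapU sys tbl_chevE6 (toH a) f2)⁻¹ =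
          kapU sys tbl_chevE6 (toH b) f0 * (kapU sys tbl_chevE6 (toH b) f2)⁻¹ :=
        congrArg (fun x => (x.1 : (powMonoidHom (Nat.gcd 3 (q + 1)) : Kˣ →* Kˣ).range).1) hab
      have h2 : kapU sys tbl_chevE6 (toH a) f2 = kapU sys tbl_chevE6 (toH b) f2 :=
        congrArg (fun x => x.2.1) hab
      have h3 : kapU sys tbl_chevE6 (toH a) f3 = kapU sys tbl_chevE6 (toH b) f3 :=
        congrArg (fun x => ((x.2.2.1 : fixU φ) : Kˣ)) hab
      have h1 : kapU sys tbl_chevE6 (toH a) f1 = kapU sys tbl_chevE6 (toH b) f1 :=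
        congrArg (fun x => ((x.2.2.2 : fixU φ) : Kˣ)) hab
      have h0 : kapU sys tbl_chevE6 (toH a) f0 = kapU sys tbl_chevE6 (toH b) f0 := by
        rw [h2] at h0'
        exact mul_right_cancel h0'
      have h5 : kapU sys tbl_chevE6 (toH a) f5 = kapU sys tbl_chevE6 (toH b) f5 := by
        apply Units.ext
        rw [(kap_fix hρ hτ I a).2.2.1, (kap_fix hρ hτ I b).2.2.1, h0]
      have h4 : kapU sys tbl_chevE6 (toH a) f4 = kapU sys tbl_chevE6 (toH b) f4 := by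
        apply Units.ext
        rw [(kap_fix hρ hτ I a).2.2.2, (kap_fix hρ hτ I b).2.2.2, h2]
      have h6 : toH a = toH b := by
        apply kapU_inj sys tbl_chevE6
        funext i
        rcases fin_cases6 i with rfl | rfl | rfl | rfl | rfl | rfl
        · exact h0
        · exact h1
        · exact h2
        · exact h3
        · exact h4
        · exact h5
      exact Subtype.ext (congrArg (fun x : chevE6.diagonalSubgroup K => x.1) h6)
    have hR : Nat.gcd 3 (q + 1) * Nat.card (powMonoidHom (Nat.gcd 3 (q + 1)) : Kˣ →* Kˣ).range = Nat.card Kˣ := by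
      rw [IsCyclic.card_powMonoidHom_range, card_units_pow hK, Nat.gcd_eq_right hd]
      exact Nat.mul_div_cancel' hd
    have hle := Nat.card_le_card_of_injective E hinj
    calc _ ≤ Nat.gcd 3 (q + 1) * _ := Nat.mul_le_mul_left _ hle
      _ = _ := by
        rw [Nat.card_prod, ← mul_assoc, hR]
        simp only [Nat.card_prod]
  · -- the torus elements
    choose Θ hΘ using exists_Θ hφ hφ2 hρ hτ I
    have hne : ∀ (a : Kˣ × Kˣ × fixU φ × fixU φ) j,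
        dP φ (a.1 : K) (a.2.1 : K) ((a.2.2.1 : Kˣ) : K) ((a.2.2.2 : Kˣ) : K) j ≠ 0 := by
      intro a j
      simp only [dP]
      split_ifs <;> simp
    refine card_squeeze (Φ₀ φ) (fun h => (kapU sys tbl_chevE6 (toH h) f0, kapU sys tbl_chevE6 (toH h) f2,
      kapU sys tbl_chevE6 (toH h) f3, kapU sys tbl_chevE6 (toH h) f1)) Θ ?_ (Φ₀_ker_card hφ hq hK)
    intro a
    have hv := fun i => kapU_torJ sys tbl_chevE6 (J := [1, 3, 0, 5, 2, 4]) (by decide) (fun i _ => hne a i)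
      (toH (Θ a)) (hΘ a) i
    obtain ⟨c00, c01, c02, c03, c04, c05, c10, c11, c12, c13, c14, c15, c20, c21, c22, c23, c24, c25, c30, c31, c32, c33, c34, c35, c40, c41, c42, c43, c44, c45, c50, c51, c52, c53, c54, c55⟩ := cart_vals
    refine Prod.ext (Units.ext ?_) (Prod.ext (Units.ext ?_) (Prod.ext (Units.ext ?_) (Units.ext ?_)))
    · have h0 := hv f0
      simp only [f0] at h0 ⊢
      rw [h0]
      simp [c00, c01, c02, c03, c04, c05, c10, c11, c12, c13, c14, c15, c20, c21, c22, c23, c24, c25, c30, c31, c32, c33, c34, c35, c40, c41, c42, c43, c44, c45, c50, c51, c52, c53, c54, c55, dP, Φ₀]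
      try ac_rfl
    · have h0 := hv f2
      simp only [f2] at h0 ⊢
      rw [h0]
      simp [c00, c01, c02, c03, c04, c05, c10, c11, c12, c13, c14, c15, c20, c21, c22, c23, c24, c25, c30, c31, c32, c33, c34, c35, c40, c41, c42, c43, c44, c45, c50, c51, c52, c53, c54, c55, dP, Φ₀]
      try ac_rfl
    · have h0 := hv f3
      simp only [f3] at h0 ⊢
      rw [h0]
      simp [c00, c01, c02, c03, c04, c05, c10, c11, c12, c13, c14, c15, c20, c21, c22, c23, c24, c25, c30, c31, c32, c33, c34, c35, c40, c41, c42, c43, c44, c45, c50, c51, c52, c53, c54, c55, dP, Φ₀]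
      try ac_rfl
    · have h0 := hv f1
      simp only [f1] at h0 ⊢
      rw [h0]
      simp [c00, c01, c02, c03, c04, c05, c10, c11, c12, c13, c14, c15, c20, c21, c22, c23, c24, c25, c30, c31, c32, c33, c34, c35, c40, c41, c42, c43, c44, c45, c50, c51, c52, c53, c54, c55, dP, Φ₀]
      try ac_rfl

end

/-- `(3,q+1) |H¹| = (q-1)⁴(q+1)²`. -/
theorem card_H1 [Fintype K] {q : ℕ} (hq : IsPrimePow q) (hK : Fintype.card K = q ^ 2) :
    Nat.gcd 3 (q + 1) * Nat.card ↥(chevE6.diagonalSubgroup K ⊓ twistedE6 K q) = (q - 1) ^ 4 * (q + 1) ^ 2 := by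
  obtain ⟨φ, T, hφ, hφ2, hρ, hτ, I⟩ := main hq hK
  exact card_main hφ hφ2 hρ hτ I hq.two_le hK

end Cfsg.Agent.Lib.Twisted.E6
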